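import Cfsg.Agent.E7P.Iface
import Cfsg.Agent.R2.H28.SL2.Mult

/-!
# S5932, tasks SPLIT and NONSPLIT: the interface (helper37)

* `Sp.Wl p a j` : the label with the digit `1` at `j` and `p - 2` at `j - 1`;
* `Sit.NONSPLIT` : the character condition.
-/

set_option autoImplicit false

namespace Cfsg.Agent.E7P

open Cfsg.Agent.R2.H28.SL2 (IsMult)

universe u v

/-- the labels with non-trivial first cohomology -/
def Sp.Wl (p a j : ℕ) : ℕ := p ^ j + (p - 2) * p ^ ((j + a - 1) % a)

namespace Sit

variable {p a b : ℕ} {F : Type u} {K : Type v} {k : Type u} [Field F] [Fintype F] [Field K] [Fintype K] [Field k]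
  (S : Sit p a b F K k)

/-- **NONSPLIT** : the forced factors and the pressure inequality are not compatible with the characters -/
def NONSPLIT : Prop := ∀ [DecidableEq k] [DecidableEq K] [Fact p.Prime] [CharP k p] [CharP K p] (n : ℕ → ℕ),
  IsMult S.ι p a S.RL n → (∀ j < a, 1 ≤ n (2 * p ^ j) ∧ 2 ≤ n (Sp.Wl p a j)) →
    n 0 + a ≤ ∑ j ∈ Finset.range a, n (Sp.Wl p a j) → False

end Sit

end Cfsg.Agent.E7P
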