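import Cfsg.Agent.E7P.Sp.Str
import Cfsg.Agent.E7P.Sp.If
import Cfsg.Agent.E7P.Br.Api
import Cfsg.Agent.E7P.Alm.Cj
import Cfsg.Agent.R2.H28.SL2.Dims

/-!
# S5932, task SPLIT (helper37)

* `Sit.sp_ss` : unstable simple submodules of the Lie algebra;
* `Sit.sp_tri` : if the radical of the module generated by `E_j` vanishes, there is a split triple;
* `Sit.sp_split` : `S.Split` for `r = 49, 121, 169, 125`, from `NoFix` and `NONSPLIT`.
-/

set_option autoImplicit false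
set_option maxRecDepth 100000

namespace Cfsg.Agent.E7P

open Cfsg Cfsg.Lie Matrix Module
open Cfsg.Agent.R2.T1 Cfsg.Agent.E7P.Kf Cfsg.Agent.E7P.Sp
open Cfsg.Agent.H943.SL2Rel (u w h)
open Cfsg.Agent.H943.SL2Mod (Bf mem_Bf)
open Cfsg.Agent.H943.RepAdd (subRep quotRep)
open Cfsg.Agent.R2.H28.SL2

universe u v w

namespace Sp

/-- the bottom of the second layer -/
def B2 (p a j : ℕ) : ℕ := if a = 2 then p ^ a - 1 else p ^ ((j + a - 2) % a)

/-- the label of the second layer -/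
def J2 (p a j : ℕ) : ℕ := if a = 2 then p ^ a - 1 - 2 * p ^ j else
  p ^ j + (p - 1) * p ^ ((j + a - 1) % a) + (p - 2) * p ^ ((j + a - 2) % a)

/-- the finite checks -/
def Chk (p a j : ℕ) : Prop :=
  Dat p a (2 * p ^ j) (p ^ ((j + a - 1) % a)) (Wl p a j) (B2 p a j) (J2 p a j) ∧ 2 * (2 * p ^ j) % (p ^ a - 1) ≠ 0 ∧
  (∀ m < p ^ a, 1 ≤ m → dle p a m (2 * p ^ j) → m = p ^ j ∨ m = 2 * p ^ j) ∧
  ∀ b ∈ [Wl p a j, J2 p a j, p ^ a - 1 - 2 * p ^ j], b ≠ 0 ∧ ((0 < b / p ^ ((j + a - 1) % a) % p ∧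
    ∑ l ∈ (Finset.range a).erase ((j + a - 1) % a), b / p ^ l % p ≤ b / p ^ ((j + a - 1) % a) % p) ∨
    133 < 2 * ∏ l ∈ Finset.range a, (b / p ^ l % p + 1))

instance decChk (p a j : ℕ) : Decidable (Chk p a j) := by unfold Chk; infer_instance

theorem chk {p a : ℕ} (hc : (p = 5 ∧ a = 3) ∨ (a = 2 ∧ (p = 7 ∨ p = 11 ∨ p = 13))) : (∀ j < a, Chk p a j) ∧
    ∀ b < p ^ a, hb p a b ≤ ∑ j ∈ Finset.range a, if Wl p a j = b then 1 else 0 := by
  rcases hc with ⟨rfl, rfl⟩ | ⟨rfl, rfl | rfl | rfl⟩ <;> decide +kernel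

theorem cyc {a : ℕ} (ha : a = 2 ∨ a = 3) {P : ℕ → Prop} (h : ∀ j < a, P j → P ((j + a - 1) % a)) (h0 : ∃ j < a, P j) :
    ∀ j < a, P j := by
  obtain ⟨i, hi, h0⟩ := h0
  intro j hj
  rcases ha with rfl | rfl
  · have h1 : P 0 → P 1 := h 0 (by norm_num)
    have h2 : P 1 → P 0 := h 1 (by norm_num)
    interval_cases i <;> interval_cases j <;> tauto
  · have h1 : P 0 → P 2 := h 0 (by norm_num)
    have h2 : P 1 → P 0 := h 1 (by norm_num)
    have h3 : P 2 → P 1 := h 2 (by norm_num)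
    interval_cases i <;> interval_cases j <;> tauto

theorem Hs_le {p a : ℕ} (h : ∀ b < p ^ a, hb p a b ≤ ∑ j ∈ Finset.range a, if Wl p a j = b then 1 else 0) (s : Multiset ℕ)
    (hs : ∀ b ∈ s, b < p ^ a) : Hs p a s ≤ ∑ j ∈ Finset.range a, s.count (Wl p a j) := by
  induction s using Multiset.induction_on with
  | empty => exact Nat.zero_le _
  | cons b s ih =>
    have h1 := ih fun c hc => hs c (Multiset.mem_cons_of_mem hc)
    have h2 := h b (hs b (Multiset.mem_cons_self _ _))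
    simp only [Multiset.count_cons, Finset.sum_add_distrib]
    rw [Hs, Multiset.map_cons, Multiset.sum_cons]
    exact (add_comm _ _).trans_le (add_le_add h1 h2)

section
variable {k : Type u} [Field k] [DecidableEq k] (p : ℕ) [Fact p.Prime] [CharP k p]

theorem card_Bf (a : ℕ) : ∀ b < p ^ a, (Bf k b).card = ∏ l ∈ Finset.range a, (b / p ^ l % p + 1) := by
  induction a with
  | zero =>
    intro b hb
    rw [show b = 0 by simpa using hb, card_Bf_zero, Finset.range_zero, Finset.prod_empty]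
  | succ a ih =>
    intro b hb
    rw [card_Bf_low k p, Finset.prod_range_succ', ih _ (Nat.div_lt_of_lt_mul (by rwa [pow_succ'] at hb)), mul_comm, pow_zero,
      Nat.div_one]
    simp only [digit_shift]

variable {F : Type w} [Field F] [Fintype F] [DecidableEq F] (ι : F →+* k) [CharP F p] [IsAlgClosed k]

theorem cf_orth {V : Type v} [AddCommGroup V] [Module k V] [FiniteDimensional k V]
    {ρ : Representation k (SpecialLinearGroup (Fin 2) F) V} {B : V →ₗ[k] V →ₗ[k] k} (D : Dul ρ ρ B) {W : Submodule k V}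
    (hW : ∀ g, ∀ x ∈ W, ρ g x ∈ W) : cf (Sy.{u, v, w} ι p) ρ =
      cf (Sy.{u, v, w} ι p) (subRep ρ _ (D.orth_inv hW)) + cf (Sy.{u, v, w} ι p) (subRep ρ W hW) := by
  obtain ⟨B', D', -⟩ := D.sub hW
  rw [cf_add _ ρ _ (D.orth_inv hW), cf_dual ι p D']

end

end Sp

namespace Sit

variable {p a b : ℕ} {F : Type u} {K : Type v} {k : Type u} [Field F] [Fintype F] [Field K] [Fintype K] [Field k]
  (S : Sit p a b F K k)

section
variable [DecidableEq k] [DecidableEq K] [Fact p.Prime] [CharP k p] [CharP K p] (h5 : 5 ≤ p)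
include h5

/-- **SS** -/
theorem sp_ss (hf : S.NoFix) {Y : Submodule k (chevE7.Idx → k)} {hY : ∀ g, ∀ y ∈ Y, S.RL g y ∈ Y} {c : ℕ}
    (hV : IsV S.ι p (subRep S.RL Y hY) c) {i : ℕ} (hi : i < a) (he : S.br_e i = 0) (h0 : 0 < c / p ^ i % p)
    (hs : ∑ l ∈ (Finset.range a).erase i, c / p ^ l % p ≤ c / p ^ i % p) : False := by
  have := S.closed
  have hp : 0 < p := S.prime.pos
  have hn := S.nn_pos
  obtain ⟨v, hv⟩ := hV.bas
  have hc := label_lt S.ι p S.cardK hV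
  have hD : ∀ n (y : Y), Dm S.ι S.RL n y = (Dm S.ι (subRep S.RL Y hY) n y : Y) := fun n y =>
    (Dm_comm S.ι (subRep S.RL Y hY) S.RL Y.subtype (fun _ _ => rfl) n y).symm
  have h1 : ∀ N : ℕ, ∀ m ∈ Bf k c, ∑ l ∈ (Finset.range a).erase i, (Alm.dg p c l - Alm.dg p m l) < N →
      (v m : chevE7.Idx → k) ∈ S.Fg (S.nn - N * S.nn) := by
    intro N
    induction N with
    | zero => exact fun m _ h => absurd h (Nat.not_lt_zero _)
    | succ N ih =>
      intro m hm h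
      rw [Nat.cast_succ, add_mul, one_mul, ← sub_sub]
      refine S.br_j1D h5 (sub_le_self _ (by positivity)) fun j hj h2 => ?_
      rw [hD, Alm.Dm_pp S.cardK hc hv hm ⟨j, hj⟩]
      by_cases h3 : Alm.dg p c j ≤ Alm.dg p m j
      · rw [Nat.sub_eq_zero_of_le h3, Nat.cast_zero, zero_smul]
        exact zero_mem _
      have h4 : j ∈ (Finset.range a).erase i := Finset.mem_erase.2 ⟨fun e => h2 (e ▸ he), Finset.mem_range.2 hj⟩
      have h6 := Alm.dg_lt' hp c j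
      have h7 := Alm.add_mem_Bf p hm (j := j) (i := 1) (by omega)
      have h8 := Alm.dg_add hp (m := m) (j := j) (i := 1) (by omega)
      rw [one_mul] at h7 h8
      refine Submodule.smul_mem _ _ (ih _ h7 (lt_of_lt_of_le (Finset.sum_lt_sum (fun l _ => ?_) ⟨j, h4, ?_⟩)
        (Nat.lt_succ_iff.1 h)))
      · rw [h8]
        split_ifs with h9
        · rw [h9]; omega
        · exact le_rfl
      · rw [h8, if_pos rfl]; omega
  obtain ⟨s, hs'⟩ : ∃ s : ℕ, s = ∑ l ∈ (Finset.range a).erase i, c / p ^ l % p := ⟨_, rfl⟩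
  have h2 : (v 0 : chevE7.Idx → k) ∈ S.Fg (-(s * S.nn)) := by
    have h2 := h1 (s + 1) 0 (Alm.zero_mem_Bf) (by
      simp only [Alm.dg_zero, Nat.sub_zero]
      exact hs' ▸ Nat.lt_succ_self _)
    rwa [show S.nn - ((s + 1 : ℕ) : ℝ) * S.nn = -(s * S.nn) by push_cast; ring] at h2
  obtain ⟨wt, hw1, hw2, hw3⟩ : ∃ wt : ℕ → ℝ, (∀ l, S.nn ≤ wt l) ∧ S.nn < wt i ∧ ∀ m, 1 ≤ m → m ≤ Fintype.card K - 1 →
      ∀ d, ∀ y ∈ S.Fg d, Dm S.ι S.RL m y ∈ S.Fg (d + ∑ j ∈ Finset.range a, (m / p ^ j % p : ℕ) * wt j) := by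
    obtain ⟨n', h3, h4⟩ := S.br_D_plus h5
    refine ⟨_, fun l => ?_, ?_, h4⟩
    · split_ifs
      · exact h3.le
      · exact le_rfl
    · rw [if_pos he]
      exact h3
  let lev : ℕ → ℝ := fun m => -(s * S.nn) + ∑ j ∈ Finset.range a, (m / p ^ j % p : ℕ) * wt j
  have h3 : ∀ m ∈ Bf k c, (v m : chevE7.Idx → k) ∈ S.Fg (lev m) := by
    intro m hm
    rcases Nat.eq_zero_or_pos m with rfl | h3
    · simpa [lev] using h2
    have h4 := (Alm.le_of_mem_Bf hm).trans hV.1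
    have h6 := hw3 m h3 h4 _ _ h2
    rw [hD, Alm.Dm_bas p hV.1 hv Alm.zero_mem_Bf h3 h4, Nat.sub_zero, zero_add] at h6
    exact (Submodule.smul_mem_iff _ (mem_Bf.1 hm).2).1 h6
  have h4 : 0 < ∑ m : Bf k c, lev m := by
    have h4 : ∀ m ∈ Bf k c, c - m ∈ Bf k c := fun m hm =>
      mem_Bf.2 ⟨Nat.sub_le _ _, by rw [Nat.choose_symm (mem_Bf.1 hm).1]; exact (mem_Bf.1 hm).2⟩
    have h6 : ∑ m ∈ Bf k c, lev m = ∑ m ∈ Bf k c, lev (c - m) :=
      Finset.sum_nbij' (fun m => c - m) (fun m => c - m) h4 h4 (fun m hm => Nat.sub_sub_self (mem_Bf.1 hm).1)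
        (fun m hm => Nat.sub_sub_self (mem_Bf.1 hm).1) fun m hm => by rw [Nat.sub_sub_self (mem_Bf.1 hm).1]
    have h7 : (s : ℝ) * S.nn + (c / p ^ i % p : ℕ) * wt i ≤ ∑ j ∈ Finset.range a, (c / p ^ j % p : ℕ) * wt j := by
      rw [← Finset.sum_erase_add _ _ (Finset.mem_range.2 hi), hs', Nat.cast_sum, Finset.sum_mul]
      exact add_le_add_left (Finset.sum_le_sum fun l _ => mul_le_mul_of_nonneg_left (hw1 l) (Nat.cast_nonneg _)) _
    have h8 : (s : ℝ) * S.nn < (c / p ^ i % p : ℕ) * wt i :=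
      lt_of_le_of_lt (mul_le_mul_of_nonneg_right (by exact_mod_cast hs' ▸ hs) hn.le)
        (mul_lt_mul_of_pos_left hw2 (by exact_mod_cast h0))
    have h9 : 0 < ∑ m ∈ Bf k c, (lev m + lev (c - m)) := Finset.sum_pos (fun m hm => by
      have h9 : ∑ j ∈ Finset.range a, ((m / p ^ j % p : ℕ) : ℝ) * wt j + ∑ j ∈ Finset.range a, ((c - m) / p ^ j % p : ℕ) * wt j =
          ∑ j ∈ Finset.range a, (c / p ^ j % p : ℕ) * wt j := by
        rw [← Finset.sum_add_distrib]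
        refine Finset.sum_congr rfl fun j _ => ?_
        have h10 : (c - m) / p ^ j % p = c / p ^ j % p - m / p ^ j % p := Alm.dg_sub hc hm j
        have h11 : m / p ^ j % p ≤ c / p ^ j % p := (Alm.mem_Bf_iff p).1 hm j
        rw [← add_mul, ← Nat.cast_add, h10, Nat.add_sub_cancel' h11]
      show 0 < -(s * S.nn) + _ + (-(s * S.nn) + _)
      linarith) ⟨0, Alm.zero_mem_Bf⟩
    rw [Finset.sum_add_distrib, ← h6] at h9
    rw [Finset.sum_coe_sort (Bf k c) lev]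
    linarith
  have hU : Unst (fun x : Bf k c → chevE7.Idx => ∑ t, ac (x t)) (powR _ (adM k)) (PX (Bf k c) fun _ : Unit => Y.subtype) :=
    unst_PX (PX_ne ⊤ (by rw [finrank_top, finrank_eq_card_basis (Basis.mk hv.li hv.sp)]) fun y _ hy => Subtype.ext (hy ()))
      S.g0 S.β fun b' m x hd => h4.trans_le (sum_le_of_det
        (fun t => LinearMap.proj (x t) ∘ₗ toLin' (adM k S.g0⁻¹) ∘ₗ Y.subtype) b' (fun m => v m) ⊥
        (fun t y hy => by rw [show y = 0 from hy, map_zero]) (fun y => Submodule.mem_sup_left (hv.sp trivial))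
        (fun m => lev m) _ (fun t m hm => h3 m m.2 (x t) hm) hd)
  obtain ⟨g, β, h6, h7, -, h8, -⟩ := (wrep_L.pow _).kempf hU
  refine S.irr_odd (by omega) hf h6 h7 fun x => h8 _ ?_
  rw [← map_inv]
  exact PX_stab (fun y : Y => ⟨_, hY x⁻¹ y y.2⟩) id fun _ y => (S.br_RL _ _).symm

omit [DecidableEq k] [DecidableEq K] [Fact p.Prime] [CharP k p] [CharP K p] in
theorem sp_hw {j : ℕ} (hj : j < a) : Hw S.ι S.RL (2 * p ^ j) (S.br_E (p ^ j)) :=
  ⟨fun t => by rw [br_RL, S.br_E_fix h5], fun z => by rw [br_RL, S.br_E_wt h5 (S.br_pow hj).2, ← pow_mul, mul_comm]⟩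

/-- the split case -/
theorem sp_tri {j : ℕ} (hj : j < a) (he : S.br_e j ≠ 0) (hc : 2 * p ^ j < p ^ a - 1)
    (hd : ∀ m < p ^ a, 1 ≤ m → dle p a m (2 * p ^ j) → m = p ^ j ∨ m = 2 * p ^ j)
    (hM : Mr S.ι S.RL (2 * p ^ j) (S.br_E (p ^ j)) = ⊥) : S.Split := by
  have hE := S.sp_hw h5 hj
  have hK := S.cardK
  have hp := (S.br_pow hj).1
  have h1 : ∀ m, 1 ≤ m → m ≤ Fintype.card K - 1 → m ≠ p ^ j → m ≠ 2 * p ^ j → xm S.ι S.RL (S.br_E (p ^ j)) m = 0 := by
    intro m h1 h2 h3 h4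
    refine (Submodule.mem_bot k).1 (hM ▸ xm_mem h1 h2 ((not_dle p (a := a) (by omega)).1 fun h => ?_))
    exact (hd m (by omega) h1 h).elim h3 h4
  have h2 : xm S.ι S.RL (S.br_E (p ^ j)) (2 * p ^ j) = S.br_E (p ^ j) := by
    have h2 := (Submodule.mem_bot k).1 (hM ▸ wx_mem (ι := S.ι) (ρ := S.RL) (c := 2 * p ^ j) (E := S.br_E (p ^ j)))
    rwa [hE.w_Q (by omega), pow_mul, neg_one_sq, one_pow, one_smul, sub_eq_zero] at h2
  refine ⟨j, S.br_E (p ^ j), -xm S.ι S.RL (S.br_E (p ^ j)) (p ^ j), -S.RL w (S.br_E (p ^ j)), hj,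
    ⟨fun h => he (by rw [br_e, h, map_zero]), S.br_E_fix h5 _, fun t => ?_, fun t => ?_, ?_, ?_,
      S.br_E_wt h5 (S.br_pow hj).2⟩, S.br_E_mem h5 _⟩
  · rw [← br_RL, map_neg, u_eq S.ι S.RL p, Finset.sum_eq_single (p ^ j)]
    · have h3 := D_x (ι := S.ι) (ρ := S.RL) p hK hp (m' := 2 * p ^ j) (by omega) (by omega) (S.RL w (S.br_E (p ^ j)))
      have h4 := choose_mul_pow (k := k) p 2 1 j
      rw [one_mul] at h4
      rw [show 2 * p ^ j - p ^ j = p ^ j by omega, h4] at h3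
      rw [show Dm S.ι S.RL (p ^ j) (xm S.ι S.RL (S.br_E (p ^ j)) (p ^ j)) = _ from h3,
        show Dm S.ι S.RL (2 * p ^ j) _ = _ from h2, smul_smul, neg_add', mul_comm]
      norm_num
    · intro n hn h3
      exact smul_eq_zero_of_right _ (D_mem (T := ⊥) p hK hp (by omega) (Finset.mem_Icc.1 hn).1 (Finset.mem_Icc.1 hn).2
        fun h4 _ => h1 _ (by omega) h4 (by have := (Finset.mem_Icc.1 hn).1; omega) (by omega))
    · exact fun h => absurd (Finset.mem_Icc.2 (S.br_pow hj)) h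
  · rw [← br_RL, map_neg, u_eq S.ι S.RL p, Finset.sum_eq_add_of_mem (p ^ j) (2 * p ^ j) (Finset.mem_Icc.2 (S.br_pow hj))
      (Finset.mem_Icc.2 ⟨by omega, by omega⟩) (by omega) fun n hn h3 => smul_eq_zero_of_right _
        (show Dm S.ι S.RL n _ = 0 from h1 n (Finset.mem_Icc.1 hn).1 (Finset.mem_Icc.1 hn).2 h3.1 h3.2), show Dm S.ι S.RL (2 * p ^ j) _ = _ from h2,
      mul_comm 2, pow_mul, smul_neg, xm]
    abel
  · rw [neg_neg, br_RL]
  · rw [← br_RL, map_neg, hE.w_x' (m' := p ^ j) (by omega) (by omega) (by omega), neg_one_pp, neg_one_smul]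

end

/-- **SPLIT** -/
theorem sp_split (hc : (p = 5 ∧ a = 3) ∨ (a = 2 ∧ (p = 7 ∨ p = 11 ∨ p = 13))) (hf : S.NoFix) (hN : S.NONSPLIT) : S.Split := by
  classical
  have := S.chark
  have := S.charK
  have := S.closed
  have : Fact p.Prime := ⟨S.prime⟩
  have h5 : 5 ≤ p := by omega
  have hK := S.cardK
  obtain ⟨hchk, hhb⟩ := chk hc
  by_contra hns
  have h2 : (2 : k) ≠ 0 := Br.two_ne (S.br_h12 h5)
  have D : Dul S.RL S.RL (kf k) :=
    ⟨fun g x y => kf_L _ x y, fun x hx => kf_nondeg h2 fun y => by rw [kf_comm, hx], fun y hy => kf_nondeg h2 hy⟩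
  have hM : ∀ j < a, ∀ g, ∀ y ∈ Mr S.ι S.RL (2 * p ^ j) (S.br_E (p ^ j)), S.RL g y ∈ Mr S.ι S.RL (2 * p ^ j) (S.br_E (p ^ j)) :=
    fun j hj => (S.sp_hw h5 hj).Mr_inv p hK (hchk j hj).1.1 (hK ▸ (hchk j hj).1.2.1)
  have h0 : ∀ j < a, S.br_e j ≠ 0 → Mr S.ι S.RL (2 * p ^ j) (S.br_E (p ^ j)) ≠ ⊥ := fun j hj he h =>
    hns (S.sp_tri h5 hj he (hchk j hj).1.2.1 (hchk j hj).2.2.1 h)
  have hm := isMult_cf S.ι p hK S.RL
  have h1 : ∀ j (hj : j < a), ∀ c ∈ cf (Sy.{u, u, v} S.ι p) (subRep S.RL _ (hM j hj)),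
      2 ≤ (cf (Sy.{u, u, v} S.ι p) S.RL).count c := by
    intro j hj c hc
    have hE := S.sp_hw h5 hj
    have h1 : kf k (S.br_E (p ^ j)) (S.br_E (p ^ j)) = 0 := by
      by_contra h1
      refine (hchk j hj).2.1 ?_
      rw [← hK, ← Nat.zero_mod (Fintype.card K - 1)]
      refine mod_of_pow S.ι fun z => mul_right_cancel₀ h1 ?_
      rw [pow_zero, one_mul]
      conv_rhs => rw [← D.inv (h z), hE.h, map_smul, map_smul, LinearMap.smul_apply, smul_smul, ← pow_add, ← two_mul]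
      rfl
    have h3 := Multiset.mem_of_le (cf_mono (Sy.{u, u, v} S.ι p) _ (D.orth_inv (hM j hj))
      (hE.Mr_orth p hK (hchk j hj).1.1 (hK ▸ (hchk j hj).1.2.1) D h1)) hc
    rw [cf_orth p S.ι D (hM j hj), Multiset.count_add]
    exact add_le_add (Multiset.one_le_count_iff_mem.2 h3) (Multiset.one_le_count_iff_mem.2 hc)
  have h3 : ∀ j < a, S.br_e j ≠ 0 := by
    refine cyc (by omega) (fun j hj he h3 => ?_) (S.br_exists_e h5)
    obtain ⟨Y, hY, c, h4, h6, h7⟩ := ((S.sp_hw h5 hj).str p hK (hchk j hj).1).resolve_left (h0 j hj he)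
    rcases ((hchk j hj).2.2.2 c (by simpa using h7.imp_right And.left)).2 with h8 | h8
    · exact S.sp_ss h5 hf h6 (Nat.mod_lt _ (by omega)) h3 h8.1 h8.2
    · have h9 := label_lt S.ι p hK h6
      have h10 := Finset.single_le_sum (f := fun b => (cf (Sy.{u, u, v} S.ι p) S.RL).count b * (Bf k b).card)
        (fun _ _ => Nat.zero_le _) (Finset.mem_range.2 h9)
      rw [← hm.dim, finrank_fintype_fun_eq_card, show Fintype.card chevE7.Idx = 133 by decide +kernel, card_Bf p a c h9] at h10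
      exact absurd (h8.trans_le (Nat.mul_le_mul_right _ (h1 j hj c (mem_cf_of_le S.ι p h6 _ h4)))) (not_lt.2 h10)
  have h4 := fun j hj => (S.sp_hw h5 hj).cf_Mr p hK (hchk j hj).1 (hM j hj)
  have h6 : ∀ t ≤ a, ∃ (R : Submodule k (chevE7.Idx → k)) (hR : ∀ g, ∀ y ∈ R, S.RL g y ∈ R),
      0 ∉ cf (Sy.{u, u, v} S.ι p) (subRep S.RL R hR) ∧ ∀ j < t, Wl p a j ∈ cf (Sy.{u, u, v} S.ι p) (subRep S.RL R hR) := by
    intro t
    induction t with
    | zero =>
      refine fun _ => ⟨⊥, fun g y hy => by rw [show y = 0 from hy, map_zero]; exact zero_mem _, ?_, fun j hj => absurd hj (by omega)⟩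
      rw [cf_zero]
      exact Multiset.notMem_zero _
    | succ t ih =>
      intro ht
      obtain ⟨R, hR, h6, h7⟩ := ih (by omega)
      refine ⟨_, sup_inv hR (hM t ht), fun h8 => (mem_cf_sup _ hR (hM t ht) h8).elim h6 fun h9 => ?_, fun j hj => ?_⟩
      · exact ((hchk t ht).2.2.2 0 (by simpa using (h4 t ht).1 0 h9)).1 rfl
      · rcases (Nat.lt_succ_iff.1 hj).eq_or_lt with rfl | hj
        · exact Multiset.mem_of_le (cf_mono _ _ _ le_sup_right) ((h4 j ht).2 (h0 j ht (h3 j ht)))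
        · exact Multiset.mem_of_le (cf_mono _ _ _ le_sup_left) (h7 j hj)
  obtain ⟨R, hR, h7, h8⟩ := h6 a le_rfl
  refine hN _ hm (fun j hj => ⟨?_, h1 j hj _ ((h4 j hj).2 (h0 j hj (h3 j hj)))⟩) ?_
  · obtain ⟨c, h9, h10⟩ := mem_cf_of_hw S.ι p (fun h => h3 j hj (by rw [br_e, h, map_zero])) (S.sp_hw h5 hj).u (S.sp_hw h5 hj).h
    have h11 := hm.supp c (Multiset.count_ne_zero.2 h9)
    have h12 := (hchk j hj).1.1
    have h13 := (hchk j hj).1.2.1
    rw [hK, Nat.mod_eq_of_lt h13] at h10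
    rcases (show c ≤ p ^ a - 1 by omega).eq_or_lt with h14 | h14
    · rw [h14, Nat.mod_self] at h10
      omega
    · rw [Nat.mod_eq_of_lt h14] at h10
      exact Multiset.one_le_count_iff_mem.2 (h10 ▸ h9)
  · have h9 := pressure_cf S.ι p hK (subRep S.RL _ (D.orth_inv hR))
    rw [fx_eq_bot (fun x hx => Subtype.ext (hf x fun g => by
      rw [← br_RL]; exact congrArg Subtype.val (hx g))), zero_add] at h9
    have h10 := Hs_le hhb _ fun c hc => (isMult_cf S.ι p hK (subRep S.RL _ (D.orth_inv hR))).supp c (Multiset.count_ne_zero.2 hc)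
    have h11 : a ≤ ∑ j ∈ Finset.range a, (cf (Sy.{u, u, v} S.ι p) (subRep S.RL R hR)).count (Wl p a j) := by
      have h11 := Finset.card_nsmul_le_sum (Finset.range a) _ 1 fun j hj =>
        Multiset.one_le_count_iff_mem.2 (h8 j (Finset.mem_range.1 hj))
      rwa [Finset.card_range, smul_eq_mul, mul_one] at h11
    simp only [cf_orth p S.ι D hR, Multiset.count_add, Finset.sum_add_distrib, Multiset.count_eq_zero_of_notMem h7]
    omega

end Sit

end Cfsg.Agent.E7P
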